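import Cfsg.Agent.Lib.Thompson.Cores
import Cfsg.Agent.LocalEvenD.SPEmb
import Cfsg.Prelude.Def_Local
import Mathlib.GroupTheory.Transfer

/-!
The `O_{p',p}` of a group in which the `p`-centralizer of a normal `p`-subgroup lies inside it, and
invariance of chain connectedness under isomorphisms.
-/

set_option autoImplicit false
set_option linter.style.haveILetI false

namespace Cfsg.Agent.LocalEvenD.StrongFusion

open Subgroup Cfsg

variable {N : Type*} [Group N] [Finite N] {p : ℕ} [hp : Fact p.Prime]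

theorem isSylow_inf_normal (R : Sylow p N) (K : Subgroup N) [K.Normal] :
    ∃ T : Sylow p ↥K, (T : Subgroup ↥K).map K.subtype = (R : Subgroup N) ⊓ K := by
  obtain ⟨T₀⟩ := (inferInstance : Nonempty (Sylow p ↥K))
  obtain ⟨T₁, hT₁⟩ := (T₀.2.map K.subtype).exists_le_sylow
  obtain ⟨g, hg⟩ := MulAction.exists_smul_eq N T₁ R
  have hle : ((T₀ : Subgroup ↥K).map K.subtype).map (MulAut.conj g).toMonoidHom ≤
      (R : Subgroup N) ⊓ K := by
    refine le_inf ?_ ?_
    · rw [← hg]
      exact map_mono hT₁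
    · exact (map_mono (map_subtype_le _)).trans (Subgroup.Normal.map_conj_eq K g).le
  have hp' : IsPGroup p ↥(((R : Subgroup N) ⊓ K).subgroupOf K) :=
    (R.2.to_inf_left).of_equiv (subgroupOfEquivOfLe inf_le_right).symm
  obtain ⟨T, hT⟩ := hp'.exists_le_sylow
  refine ⟨T, (eq_of_le_of_card_ge ?_ ?_).symm⟩
  · intro x hx
    exact ⟨⟨x, hx.2⟩, hT hx, rfl⟩
  · rw [card_map_of_injective K.subtype_injective, ← T₀.card_eq_multiplicity.trans T.card_eq_multiplicity.symm,
      ← card_map_of_injective K.subtype_injective]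
    exact le_trans (card_map_of_injective (MulAut.conj g).injective).ge (card_le_of_le hle)

theorem pPrimePCore_le (R : Sylow p N) :
    pPrimePCore p N ≤ ((R : Subgroup N) ⊓ pPrimePCore p N) ⊔ pPrimeCore p N := by
  intro x hx
  have h1 : QuotientGroup.mk' (pPrimeCore p N) x ∈
      ((R.mapSurjective (f := QuotientGroup.mk' (pPrimeCore p N)) (QuotientGroup.mk'_surjective _) :
        Sylow p (N ⧸ pPrimeCore p N)) : Subgroup (N ⧸ pPrimeCore p N)) :=
    Thompson.pCore_le_sylow _ hx
  rw [Sylow.coe_mapSurjective] at h1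
  obtain ⟨r, hr, hrx⟩ := h1
  have ho : r⁻¹ * x ∈ pPrimeCore p N := QuotientGroup.eq.1 hrx
  have hrW : r ∈ pPrimePCore p N := by
    show QuotientGroup.mk' _ r ∈ pCore p (N ⧸ pPrimeCore p N)
    rw [hrx]; exact hx
  have := mul_mem (mem_sup_left (T := pPrimeCore p N) (show r ∈ (R : Subgroup N) ⊓ pPrimePCore p N from ⟨hr, hrW⟩))
    (mem_sup_right (S := (R : Subgroup N) ⊓ pPrimePCore p N) ho)
  rwa [mul_inv_cancel_left] at this

theorem pPrimeCore_le_pPrimePCore : pPrimeCore p N ≤ pPrimePCore p N := fun x hx => by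
  show QuotientGroup.mk' _ x ∈ pCore p (N ⧸ pPrimeCore p N)
  rw [show QuotientGroup.mk' (pPrimeCore p N) x = 1 from (QuotientGroup.eq_one_iff x).2 hx]
  exact one_mem _

theorem normal_pPrimePCore : (pPrimePCore p N).Normal :=
  (inferInstance : (pCore p (N ⧸ pPrimeCore p N)).Normal).comap _

variable {U : Subgroup N} [U.Normal] (hU : IsPGroup p ↥U)
include hU

theorem le_pPrimePCore : U ≤ pPrimePCore p N :=
  map_le_iff_le_comap.1 (Thompson.le_pCore (Subgroup.Normal.map inferInstance _
    (QuotientGroup.mk'_surjective _)) (hU.map _))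

theorem pPrimeCore_le_centralizer : pPrimeCore p N ≤ centralizer (U : Set N) := by
  rw [← commutator_eq_bot_iff_le_centralizer, ← le_bot_iff,
    ← Thompson.inf_eq_bot_of_isPGroup_of_coprime (A := U) (B := pPrimeCore p N) hU
      Thompson.card_pPrimeCore_coprime]
  exact le_inf (commutator_le_right _ _) (commutator_le_left _ _)

variable (R : Sylow p N) (hC : (R : Subgroup N) ⊓ centralizer (U : Set N) ≤ U)
include hC

theorem centralizer_le_pPrimePCore : centralizer (U : Set N) ≤ pPrimePCore p N := by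
  haveI : (centralizer (U : Set N)).Normal := normal_centralizer
  set K := centralizer (U : Set N) with hK
  obtain ⟨T, hT⟩ := isSylow_inf_normal R K
  have hTU : ∀ t ∈ (T : Subgroup ↥K), (t : N) ∈ U := fun t ht =>
    hC (hT.le ⟨t, ht, rfl⟩)
  have hcent : normalizer ((T : Subgroup ↥K) : Set ↥K) ≤ centralizer ((T : Subgroup ↥K) : Set ↥K) :=
    fun k _ => mem_centralizer_iff.2 fun t ht =>
      Subtype.ext (mem_centralizer_iff.1 k.2 _ (hTU t ht))
  have hcompl := MonoidHom.ker_transferSylow_isComplement' T hcent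
  set K₀ := (MonoidHom.transferSylow T hcent).ker with hK₀
  have hcop : (Nat.card K₀).Coprime p := by
    refine ((hp.out.coprime_iff_not_dvd).2 fun hd => T.not_dvd_index ?_).symm
    rwa [hcompl.index_eq_card]
  have hle : K₀.map K.subtype ≤ pPrimeCore p N := by
    refine (map_mono (Thompson.le_pPrimeCore (inferInstance : K₀.Normal) hcop)).trans ?_
    exact Thompson.map_pPrimeCore_normal_le K
  intro x hx
  obtain ⟨⟨a, b⟩, hab, -⟩ := hcompl.existsUnique ⟨x, hx⟩
  rw [← show ((a : ↥K) : N) * ((b : ↥K) : N) = x from congrArg Subtype.val hab]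
  exact mul_mem (pPrimeCore_le_pPrimePCore (hle ⟨a, a.2, rfl⟩)) (le_pPrimePCore hU (hTU b b.2))

theorem pPrimePCore_eq (hRW : (R : Subgroup N) ⊓ pPrimePCore p N ≤ U) :
    pPrimePCore p N = U ⊔ centralizer (U : Set N) :=
  le_antisymm ((pPrimePCore_le R).trans (sup_le_sup hRW (pPrimeCore_le_centralizer hU)))
    (sup_le (le_pPrimePCore hU) (centralizer_le_pPrimePCore hU R hC))

end Cfsg.Agent.LocalEvenD.StrongFusion

namespace Cfsg.Agent.LocalEvenD.StrongFusion

variable {A B : Type*} [Group A] [Group B] [Finite A] {p : ℕ} [Fact p.Prime]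

theorem not_chainConnected_of_equiv (e : A ≃* B) (h : ¬ Cfsg.IsSylowChainConnected p A) :
    ¬ Cfsg.IsSylowChainConnected p B := by
  haveI : Finite B := Finite.of_equiv A e.toEquiv
  obtain ⟨H, hH, hpH, hs⟩ := not_chainConnected_iff.1 h
  refine not_chainConnected_iff.2 ⟨H.map e.toMonoidHom, fun he => hH ?_, ?_, fun g hg => ?_⟩
  · apply Subgroup.map_injective (f := e.toMonoidHom) e.injective
    rw [he, Subgroup.map_top_of_surjective _ e.surjective]
  · rwa [Subgroup.card_map_of_injective (f := e.toMonoidHom) e.injective]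
  · obtain ⟨a, rfl⟩ := e.surjective g
    have ha : a ∉ H := fun ha => hg ⟨a, ha, rfl⟩
    have heq : (H.map e.toMonoidHom).map (MulAut.conj (e a)).toMonoidHom =
        (H.map (MulAut.conj a).toMonoidHom).map e.toMonoidHom := by
      rw [Subgroup.map_map, Subgroup.map_map]
      congr 1
      ext x
      simp
    rw [heq, ← Subgroup.map_inf _ _ _ e.injective, Subgroup.card_map_of_injective (f := e.toMonoidHom) e.injective]
    exact hs a ha

end Cfsg.Agent.LocalEvenD.StrongFusion
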